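import Groth.Agent.Pi1.K868.BcDef
import Groth.Agent.Pi1.H408.PrincRestrict
import Groth.Agent.Pi1.H415.Glue
import Groth.Agent.Pi1.H394.SNCConn
import Groth.Agent.Sga4h.SLocTrans88
import Groth.Agent.S3689
import Groth.Agent.S3711

/-!
# Full faithfulness for principal covers of the complement of a relative snc divisor

`leaf`: let `φ` cut out a strict normal crossings divisor of `X` relative to `S`.  Over a strictly henselian base
`Spec O` in which `n` is a unit, let `Spec A` be a strict localization of `X_O` at a point of the closed fibre and `P` a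
principal cover of order dividing `n` of the complement `V_A` of the divisor.  Then every clopen subset of the closed
fibre of `P` is the trace of a clopen subset of `P`.
-/

set_option autoImplicit false
set_option linter.style.haveILetI false
universe u

open CategoryTheory CategoryTheory.Limits AlgebraicGeometry IsLocalRing TensorProduct

namespace K722.Leaf

open K868.Bc Groth.Agent Groth.Agent.Etrest.StrictLoc Groth.Agent.Pi1.H415 Groth.Agent.Pi1.H415.SplitBC

/-- If every point lies in a clopen preconnected subset with preconnected trace on `W`, then relatively clopen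
subsets of `W` are traces of clopen subsets. -/
theorem clSurj_of_cover {T : Type*} [TopologicalSpace T] (W : Set T)
    (h : ∀ t : T, ∃ C : Set T, t ∈ C ∧ IsClopen C ∧ _root_.IsPreconnected C ∧ _root_.IsPreconnected (C ∩ W)) :
    ClSurj W := by
  intro D hDW hD
  let F : Set (Set T) := {E | IsClopen E ∧ _root_.IsPreconnected E ∧ _root_.IsPreconnected (E ∩ W) ∧ (E ∩ D).Nonempty}
  refine ⟨⋃₀ F, ⟨?_, isOpen_sUnion fun E hE => hE.1.isOpen⟩, ?_⟩
  · rw [← isOpen_compl_iff, isOpen_iff_mem_nhds]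
    intro t ht
    obtain ⟨C, htC, hC, hC', hCW⟩ := h t
    refine Filter.mem_of_superset (hC.isOpen.mem_nhds htC) ?_
    rintro s hsC ⟨E, hE, hsE⟩
    have h1 : C ⊆ E := hC'.subset_isClopen hE.1 ⟨s, hsC, hsE⟩
    exact ht ⟨E, hE, h1 htC⟩
  · ext t
    constructor
    · rintro ⟨⟨E, hE, htE⟩, htW⟩
      have h1 : _root_.IsPreconnected ((Subtype.val : W → T) ⁻¹' E) := by
        rw [← Topology.IsInducing.subtypeVal.isPreconnected_image, Subtype.image_preimage_coe,
          Set.inter_comm]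
        exact hE.2.2.1
      obtain ⟨d, hdE, hdD⟩ := hE.2.2.2
      have h2 := h1.subset_isClopen hD ⟨⟨d, hDW hdD⟩, hdE, hdD⟩
      exact h2 (show (⟨t, htW⟩ : W) ∈ (Subtype.val : W → T) ⁻¹' E from htE)
    · intro ht
      obtain ⟨C, htC, hC, hC', hCW⟩ := h t
      exact ⟨⟨C, ⟨hC, hC', hCW, ⟨t, htC, ht⟩⟩, htC⟩, hDW ht⟩

/-- Covers split by a connected cover with preconnected closed fibre. -/
theorem clSurj_of_ptSplit {U V K : Scheme.{u}} (v : V ⟶ U) (k : K ⟶ U) [IsFinite v] [Etale v] [IsFinite k]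
    [Etale k] [Surjective k] [ConnectedSpace K] (hs : PtSplit v k) {O : Type u} [CommRing O] [IsLocalRing O]
    (q : U ⟶ Spec (CommRingCat.of O)) (hK : _root_.IsPreconnected (cf (k ≫ q))) : ClSurj (cf (v ≫ q)) := by
  refine clSurj_of_cover _ fun t => ?_
  obtain ⟨s, hs1, ht⟩ := exists_mem_range v k hs t
  refine ⟨Set.range s, ht, isClopen_range v k s hs1, isPreconnected_range s.continuous, ?_⟩
  have h1 : Set.range s ∩ cf (v ≫ q) = s '' cf (k ≫ q) := by
    ext y
    constructor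
    · rintro ⟨⟨z, rfl⟩, hz⟩
      refine ⟨z, ?_, rfl⟩
      change (k ≫ q) z = closedPoint O
      rw [← hs1, Category.assoc, Scheme.Hom.comp_apply]
      exact hz
    · rintro ⟨z, hz, rfl⟩
      refine ⟨⟨z, rfl⟩, ?_⟩
      change (v ≫ q) (s z) = closedPoint O
      rw [← Scheme.Hom.comp_apply, ← Category.assoc, hs1]
      exact hz
  rw [h1]
  exact hK.image _ s.continuous.continuousOn

/-- Splitting over `U` from splitting after a base change. -/
theorem ptSplit_comp {U U' V K : Scheme.{u}} (v : V ⟶ U) (g : U' ⟶ U) (k : K ⟶ U')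
    (h : PtSplit (pullback.snd v g) k) : PtSplit v (k ≫ g) := by
  intro Ω _ t κ e
  obtain ⟨s, h1, h2⟩ := h Ω (pullback.lift t (κ ≫ k) (by rw [e, Category.assoc])) κ (pullback.lift_snd _ _ _)
  refine ⟨s ≫ pullback.fst v g, ?_, ?_⟩
  · rw [Category.assoc, pullback.condition, reassoc_of% h1]
  · rw [reassoc_of% h2, pullback.lift_fst]

/-- `IsLocalHom` from the closed points. -/
theorem isLocalHom_of_closedPoint {O A : Type u} [CommRing O] [IsLocalRing O] [CommRing A] [IsLocalRing A]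
    (β : O →+* A) (h : (spm β) (closedPoint A) = closedPoint O) : IsLocalHom β :=
  (isLocalHom_iff_comap_closedPoint β).2 h

section Fibre

variable {Y O A : Type u} [CommRing O] [IsLocalRing O] [CommRing A] [IsLocalRing A]

/-- The closed fibre of a local homomorphism `O ⟶ A` is the spectrum of a local ring `T`. -/
theorem exists_fibre (β : O →+* A) [IsLocalHom β] :
    ∃ (T : Type u) (_ : CommRing T) (_ : IsLocalRing T) (q : A →+* T) (κ : ResidueField O →+* T),
      IsLocalHom q ∧ IsPullback (spm q) (spm κ) (spm β) (resPt O) := by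
  letI : Algebra O A := β.toAlgebra
  let T := A ⊗[O] (ResidueField O)
  let q : A →+* T := Algebra.TensorProduct.includeLeftRingHom
  let κ : ResidueField O →+* T := (Algebra.TensorProduct.includeRight : ResidueField O →ₐ[O] T).toRingHom
  have hsurj : Function.Surjective q :=
    Algebra.TensorProduct.includeLeft_surjective O A residue_surjective
  have hnt : Nontrivial T := by
    let f : A →ₐ[O] ResidueField A := { residue A with commutes' := fun _ => rfl }
    let g : ResidueField O →ₐ[O] ResidueField A := { ResidueField.map β with commutes' := fun _ => rfl }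
    exact (Algebra.TensorProduct.lift f g fun _ _ => Commute.all _ _).toRingHom.domain_nontrivial
  have hloc : IsLocalRing T := IsLocalRing.of_surjective' q hsurj
  refine ⟨T, inferInstance, hloc, q, κ, ?_, ?_⟩
  · exact Function.Surjective.isLocalHom q hsurj
  · exact isPullback_SpecMap_of_isPushout _ _ _ _ (CommRingCat.isPushout_tensorProduct O A (ResidueField O))

/-- The range of the projection of a fibre product with a point. -/
theorem mem_range_of_isPullback {P X K S : Scheme.{u}} {m : P ⟶ X} {w : P ⟶ K} {f : X ⟶ S} {k : K ⟶ S}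
    (h : IsPullback m w f k) (x : X) (z : K) (hz : f x = k z) : x ∈ Set.range m := by
  obtain ⟨p, hp, -⟩ := Scheme.Pullback.exists_preimage_pullback x z hz
  refine ⟨h.isoPullback.inv p, ?_⟩
  rw [← Scheme.Hom.comp_apply, h.isoPullback_inv_fst, hp]

variable {Y : Scheme.{u}} (b : Y ⟶ Spec (CommRingCat.of O)) (g : Spec (CommRingCat.of A) ⟶ Y)

/-- The structure of the closed fibre of `Spec A ⟶ Y ⟶ Spec O` for `Spec A ⟶ Y` weakly étale. -/
theorem exists_fibre_sq [WeaklyEtale g] (hy : b (g (closedPoint A)) = closedPoint O) :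
    ∃ (T : Type u) (_ : CommRing T) (_ : IsLocalRing T) (q : A →+* T) (κ : ResidueField O →+* T)
      (g' : Spec (CommRingCat.of T) ⟶ pullback b (resPt O)),
      IsLocalHom q ∧ IsPullback (spm q) (spm κ) (g ≫ b) (resPt O) ∧ WeaklyEtale g' ∧
        g' ≫ pullback.fst b (resPt O) = spm q ≫ g := by
  let β : O →+* A := (Spec.preimage (g ≫ b)).hom
  have hβ : spm β = g ≫ b := Spec.map_preimage _
  have : IsLocalHom β := isLocalHom_of_closedPoint β (by rw [hβ, Scheme.Hom.comp_apply, hy])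
  obtain ⟨T, _, _, q, κ, hq, sq⟩ := exists_fibre β
  rw [hβ] at sq
  have e1 : (spm q ≫ g) ≫ b = spm κ ≫ resPt O := by rw [Category.assoc, sq.w]
  let g' : Spec (CommRingCat.of T) ⟶ pullback b (resPt O) := pullback.lift (spm q ≫ g) (spm κ) e1
  have h1 : g' ≫ pullback.fst b (resPt O) = spm q ≫ g := pullback.lift_fst _ _ _
  have h2 : g' ≫ pullback.snd b (resPt O) = spm κ := pullback.lift_snd _ _ _
  have sq' : IsPullback g' (spm q) (pullback.fst b (resPt O)) g := by
    refine IsPullback.of_right (h₁₂ := pullback.snd b (resPt O)) (v₁₃ := resPt O) (h₂₂ := b) ?_ h1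
      (IsPullback.of_hasPullback b (resPt O)).flip
    rw [h2]
    exact sq.flip
  exact ⟨T, inferInstance, inferInstance, q, κ, g', hq, sq,
    MorphismProperty.of_isPullback (P := @WeaklyEtale) sq'.flip ‹_›, h1⟩

/-- The closed fibre of the part of the Kummer scheme over the complement of the divisor is preconnected. -/
theorem isPreconnected_kummer [WeaklyEtale g] {r : ℕ} (φ : Fin r → Γ(Y, ⊤)) (hD : SGA1t.IsRelSNC b φ) (y : Y)
    (hg : g (closedPoint A) = y) (hy : b y = closedPoint O) (hx : Nonempty (SGA1t.vanishingAt φ y))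
    (a : SGA1t.vanishingAt φ y → A) (ha : ∀ i, a i = Groth.Agent.Pi1.H394.SNCConn.sec g (φ i.1))
    (n : SGA1t.vanishingAt φ y → ℕ) (hn : ∀ i, 1 ≤ n i) :
    _root_.IsPreconnected (cf ((KumBC.str A a n ⁻¹ᵁ SGA1t.compl (fun i => g.appTop (φ i))).ι ≫
      KumBC.str A a n ≫ g ≫ b)) := by
  obtain ⟨T, _, _, q, κ, g', hq, sq, hwe, hg'⟩ := exists_fibre_sq b g (by rw [hg, hy])
  have hqc : spm q (closedPoint T) = closedPoint A := (isLocalHom_iff_comap_closedPoint q).1 hq
  have hy' : pullback.fst b (resPt O) (g' (closedPoint T)) = y := by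
    rw [← Scheme.Hom.comp_apply, hg', Scheme.Hom.comp_apply, hqc, hg]
  subst hy'
  let e := Groth.Agent.Pi1.H403.RelSNCBase.vanEquiv (pullback.fst b (resPt O)) φ (g' (closedPoint T))
  have hD' := Groth.Agent.Pi1.H403.RelSNCBase.isRelSNC_baseChange b φ hD (resPt O)
  let a' : SGA1t.vanishingAt (fun i => (pullback.fst b (resPt O)).appTop (φ i)) (g' (closedPoint T)) → T :=
    fun i => Groth.Agent.Pi1.H394.SNCConn.sec g' ((pullback.fst b (resPt O)).appTop (φ i.1))
  have ha' : ∀ j, a' j = q (a (e j)) := by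
    intro j
    rw [ha]
    have h1 : (pullback.fst b (resPt O)).appTop ≫ g'.appTop ≫ (Scheme.ΓSpecIso (CommRingCat.of T)).hom =
        g.appTop ≫ (Scheme.ΓSpecIso (CommRingCat.of A)).hom ≫ CommRingCat.ofHom q := by
      rw [← Scheme.ΓSpecIso_naturality, ← Scheme.Hom.comp_appTop_assoc, hg', Scheme.Hom.comp_appTop_assoc]
    exact congr($(h1) (φ j.1))
  have hn' : ∀ j, 1 ≤ n (e j) := fun j => hn _
  obtain ⟨-, hc⟩ := Groth.Agent.Pi1.H394.SNCConn.isConnected_of_weaklyEtale (pullback.snd b (resPt O)) _ hD'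
    (g' (closedPoint T)) (hx.map e.symm) T g' rfl a' (fun _ => rfl) (fun j => n (e j)) hn'
  have hpb := (KumBC.isPullback q e a n a' (fun j => n (e j)) ha' (fun _ => rfl)).paste_vert sq
  let M := KumBC.ringMap q e a n a' (fun j => n (e j)) ha' (fun _ => rfl)
  have hM : ∀ c : A, M (algebraMap A _ c) = algebraMap T _ (q c) :=
    KumBC.ringMap_algebraMap q e a n a' (fun j => n (e j)) ha' (fun _ => rfl)
  have hU : ∀ z : PrimeSpectrum (SGA1t.kummer A a n),
      z ∈ (KumBC.str A a n ⁻¹ᵁ SGA1t.compl (fun i => g.appTop (φ i)) :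
        (Spec (CommRingCat.of (SGA1t.kummer A a n))).Opens) ↔
      ∀ i, algebraMap A (SGA1t.kummer A a n) (a i) ∉ z.asIdeal := by
    intro z
    have h1 := Groth.Agent.Pi1.H394.SNCConn.mem_preimage_compl_iff φ _ g hg (SGA1t.kummer A a n) z
    refine h1.trans (forall_congr' fun i => ?_)
    rw [ha]
  have hZ : ∀ p : PrimeSpectrum (SGA1t.kummer T a' fun j => n (e j)),
      (∀ i, algebraMap A (SGA1t.kummer A a n) (a i) ∉ ((spm M) p : PrimeSpectrum _).asIdeal) ↔
        ∀ i, algebraMap T _ (a' i) ∉ p.asIdeal := by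
    intro p
    have h1 : ∀ c : SGA1t.kummer A a n, c ∈ ((spm M) p : PrimeSpectrum _).asIdeal ↔ M c ∈ p.asIdeal :=
      fun c => Iff.rfl
    simp only [h1, hM, ha']
    exact ⟨fun h i => h _, fun h i => by simpa using h (e.symm i)⟩
  let U : (Spec (CommRingCat.of (SGA1t.kummer A a n))).Opens :=
    KumBC.str A a n ⁻¹ᵁ SGA1t.compl (fun i => g.appTop (φ i))
  have himg : U.ι '' cf (U.ι ≫ KumBC.str A a n ≫ g ≫ b) =
      spm M '' {p : PrimeSpectrum (SGA1t.kummer T a' fun j => n (e j)) |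
        ∀ i, algebraMap T _ (a' i) ∉ p.asIdeal} := by
    ext z
    constructor
    · rintro ⟨w, hw, rfl⟩
      have h1 : (KumBC.str A a n ≫ g ≫ b) (U.ι w) = (resPt O) (closedPoint (ResidueField O)) := by
        rw [resPt_closedPoint, ← Scheme.Hom.comp_apply]
        exact hw
      obtain ⟨p, hp⟩ := mem_range_of_isPullback hpb (U.ι w) _ h1
      refine ⟨p, ?_, hp⟩
      refine (hZ p).1 ?_
      have h2 : (spm M) p = U.ι w := hp
      rw [h2]
      exact (hU _).1 w.2
    · rintro ⟨p, hp, rfl⟩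
      have h1 : (spm M p : PrimeSpectrum _) ∈ U := (hU _).2 ((hZ p).2 hp)
      refine ⟨⟨spm M p, h1⟩, ?_, rfl⟩
      change (U.ι ≫ KumBC.str A a n ≫ g ≫ b) (⟨spm M p, h1⟩ : U) = closedPoint O
      rw [Scheme.Hom.comp_apply]
      have h2 : (KumBC.str A a n ≫ g ≫ b) (spm M p) = closedPoint O := by
        have h3 := hpb.w
        have h4 := congrArg (fun k : Spec (CommRingCat.of (SGA1t.kummer T a' fun j => n (e j))) ⟶
          Spec (CommRingCat.of O) => k p) h3
        simp only [Scheme.Hom.comp_apply] at h4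
        refine Eq.trans ?_ (h4.trans (resPt_closedPoint O _))
        simp only [Scheme.Hom.comp_apply]
      exact h2
  have h3 : _root_.IsPreconnected (U.ι '' cf (U.ι ≫ KumBC.str A a n ≫ g ≫ b)) := by
    rw [himg]
    exact hc.isPreconnected.image _ (spm M).continuous.continuousOn
  exact U.ι.isOpenEmbedding.isInducing.isPreconnected_image.1 h3

/-- The spectrum of a local ring is preconnected. -/
theorem isPreconnected_univ_spec (T : Type u) [CommRing T] [IsLocalRing T] :
    _root_.IsPreconnected (Set.univ : Set ↥(Spec (CommRingCat.of T))) := by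
  refine isPreconnected_of_forall (IsLocalRing.closedPoint T : PrimeSpectrum T) fun y _ => ?_
  refine ⟨closure {y}, Set.subset_univ _, ?_, subset_closure rfl, isPreconnected_singleton.closure⟩
  exact (IsLocalRing.specializes_closedPoint (y : PrimeSpectrum T)).mem_closure

/-- The closed fibre of `Spec A` is preconnected. -/
theorem isPreconnected_top [WeaklyEtale g] (hy : b (g (closedPoint A)) = closedPoint O)
    (U : (Spec (CommRingCat.of A)).Opens) (hU : U = ⊤) : _root_.IsPreconnected (cf (U.ι ≫ g ≫ b)) := by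
  obtain ⟨T, _, _, q, κ, g', hq, sq, hwe, hg'⟩ := exists_fibre_sq b g hy
  have himg : U.ι '' cf (U.ι ≫ g ≫ b) = spm q '' Set.univ := by
    ext z
    constructor
    · rintro ⟨w, hw, rfl⟩
      have h1 : (g ≫ b) (U.ι w) = (resPt O) (closedPoint (ResidueField O)) := by
        rw [resPt_closedPoint, ← Scheme.Hom.comp_apply]
        exact hw
      obtain ⟨p, hp⟩ := mem_range_of_isPullback sq (U.ι w) _ h1
      exact ⟨p, trivial, hp⟩
    · rintro ⟨p, -, rfl⟩
      refine ⟨⟨spm q p, by rw [hU]; trivial⟩, ?_, rfl⟩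
      change (U.ι ≫ g ≫ b) (⟨spm q p, _⟩ : U) = closedPoint O
      rw [Scheme.Hom.comp_apply]
      have h2 : (g ≫ b) (spm q p) = closedPoint O := by
        rw [← Scheme.Hom.comp_apply, sq.w, Scheme.Hom.comp_apply, resPt_closedPoint]
      exact h2
  have h3 : _root_.IsPreconnected (U.ι '' cf (U.ι ≫ g ≫ b)) := by
    rw [himg]
    exact (isPreconnected_univ_spec T).image _ (spm q).continuous.continuousOn
  exact U.ι.isOpenEmbedding.isInducing.isPreconnected_image.1 h3

end Fibre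

/-- **Full faithfulness for principal covers of the complement of a relative snc divisor.** -/
theorem leaf (n : ℕ) {X S : Scheme.{u}} (f : X ⟶ S) {r : ℕ} (φ : Fin r → Γ(X, ⊤)) (h : SGA1t.IsRelSNC f φ) :
    K868.Bc.FF n (SGA1t.compl φ).ι f := by
  intro O A _ _ _ _ hO hOs hn t Y₁ c b₁ hY σ hσ hcl XA x fA hXA G _ _ hG P ρ hP
  have hwe : WeaklyEtale σ := Groth.Agent.Sga4h.SLocTrans88.weaklyEtale_of_isStrictLoc hσ
  have hAh : HenselianLocalRing A := hσ.henselian
  have hAs : IsSepClosed (ResidueField A) := hσ.sepClosed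
  obtain ⟨y, _, _, _, hσ', hy⟩ := Groth.Agent.Sga4h.SLoc.exists_sh hσ
  subst hσ'
  have hy2 : b₁ y = closedPoint O := by rw [hy]; exact hcl
  -- the divisor on `Y₁`
  let φ₁ : Fin r → Γ(Y₁, ⊤) := fun i => c.appTop (φ i)
  have hD₁ : SGA1t.IsRelSNC b₁ φ₁ := Groth.Agent.Pi1.H403.RelSNCBase.isRelSNC_of_isPullback hY h
  have hU₁ : Glue.cmpl φ₁ y A = (Hens2.specOf Y₁ y A ≫ c) ⁻¹ᵁ SGA1t.compl φ := by
    rw [Groth.Agent.Pi1.H403.RelSNCBase.preimage_compl, Scheme.Hom.comp_appTop]
    rfl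
  -- the identification of `XA` with the complement in `Spec A`
  obtain ⟨θ, hθ, hθ'⟩ : ∃ θ : (Glue.cmpl φ₁ y A : Scheme.{u}) ⟶ XA, IsIso θ ∧ θ ≫ fA = (Glue.cmpl φ₁ y A).ι := by
    have key : ∀ U : (Spec (CommRingCat.of A)).Opens, U = (Hens2.specOf Y₁ y A ≫ c) ⁻¹ᵁ SGA1t.compl φ →
        ∃ θ : (U : Scheme.{u}) ⟶ XA, IsIso θ ∧ θ ≫ fA = U.ι := by
      rintro U rfl
      have h1 := isPullback_morphismRestrict (Hens2.specOf Y₁ y A ≫ c) (SGA1t.compl φ)
      exact ⟨(h1.isoIsPullback _ _ hXA).hom, inferInstance, h1.isoIsPullback_hom_snd _ _ hXA⟩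
    exact key _ hU₁
  let P' : FEt.Cat (Glue.cmpl φ₁ y A : Scheme.{u}) := (FEt.restrict θ).obj P
  have hP' : SGA1t.IsPrincipal G P' (((FEt.restrict θ).mapAut P).comp ρ) :=
    Groth.Agent.Pi1.H408.PrincRestrict.isPrincipal_restrict θ P ρ hP
  have htame : SGA1t.IsRelTame (Hens2.specOf Y₁ y A ≫ b₁)
      (fun i => (Hens2.specOf Y₁ y A).appTop (φ₁ i)) P' := by
    intro Ω _ _ σ' _ y0 _ hdvr w hw hne
    refine Groth.Agent.S3711.isTamelyRamified_of_openImmersion
      (SGA1t.compl (fun i => (Hens2.specOf Y₁ y A).appTop (φ₁ i))).ι G P' _ hP'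
      (pullback.fst (Hens2.specOf Y₁ y A ≫ b₁) σ') y0 hdvr w hw hne ?_
    have hGO : IsUnit ((Nat.card G : ℕ) : O) :=
      isUnit_of_dvd_unit (Nat.cast_dvd_cast hG) hn
    let ψ : CommRingCat.of O ⟶ (pullback (Hens2.specOf Y₁ y A ≫ b₁) σ').residueField y0 :=
      (Scheme.ΓSpecIso (CommRingCat.of O)).inv ≫
        (pullback.fst (Hens2.specOf Y₁ y A ≫ b₁) σ' ≫ Hens2.specOf Y₁ y A ≫ b₁).appTop ≫
        (pullback (Hens2.specOf Y₁ y A ≫ b₁) σ').presheaf.germ ⊤ y0 trivial ≫
        (pullback (Hens2.specOf Y₁ y A ≫ b₁) σ').residue y0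
    have h1 := hGO.map ψ.hom
    rwa [map_natCast] at h1
  have hF : IsFinite P.hom := P.prop.1
  have hE : Etale P.hom := P.prop.2
  by_cases hx : Nonempty (SGA1t.vanishingAt φ₁ y)
  · obtain ⟨m, hm, hmu, hs⟩ := Glue.exists_split b₁ φ₁ hD₁ y A (@Groth.Agent.S3689.result.{u}) hx P' htame
    have h1 : Surjective (KumBC.str A (Glue.eqs φ₁ y A) m ∣_ Glue.cmpl φ₁ y A) :=
      KumBC.surjective_restrict (Glue.eqs φ₁ y A) m hm _
    have h2 : Etale (KumBC.str A (Glue.eqs φ₁ y A) m ∣_ Glue.cmpl φ₁ y A) :=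
      Glue.etale_restrict φ₁ y A m hm hmu
    have h3 : IsFinite (KumBC.str A (Glue.eqs φ₁ y A) m ∣_ Glue.cmpl φ₁ y A) :=
      KumBC.isFinite_restrict (Glue.eqs φ₁ y A) m hm _
    have h4 : ConnectedSpace ↥(↑(KumBC.str A (Glue.eqs φ₁ y A) m ⁻¹ᵁ Glue.cmpl φ₁ y A) : Scheme.{u}) :=
      Groth.Agent.Pi1.H394.SNCConn.connectedSpace_strictHenselization b₁ φ₁ hD₁ y hx A m hm
    refine clSurj_of_ptSplit P.hom (KumBC.str A (Glue.eqs φ₁ y A) m ∣_ Glue.cmpl φ₁ y A ≫ θ)
      (ptSplit_comp P.hom θ _ hs) (fA ≫ Hens2.specOf Y₁ y A ≫ b₁) ?_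
    have h5 : (KumBC.str A (Glue.eqs φ₁ y A) m ∣_ Glue.cmpl φ₁ y A ≫ θ) ≫ fA ≫ Hens2.specOf Y₁ y A ≫ b₁ =
        (KumBC.str A (Glue.eqs φ₁ y A) m ⁻¹ᵁ Glue.cmpl φ₁ y A).ι ≫ KumBC.str A (Glue.eqs φ₁ y A) m ≫
          Hens2.specOf Y₁ y A ≫ b₁ := by
      rw [Category.assoc, reassoc_of% hθ', morphismRestrict_ι_assoc]
    rw [h5]
    exact isPreconnected_kummer b₁ (Hens2.specOf Y₁ y A) φ₁ hD₁ y hy.symm hy2 hx (Glue.eqs φ₁ y A)
      (fun i => (Groth.Agent.Pi1.H394.SNCConn.sec_specOf y A _).symm) m hm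
  · rw [not_nonempty_iff] at hx
    have hs := Glue.ptSplit_of_isEmpty φ₁ y A hx P'
    have htop : Glue.cmpl φ₁ y A = ⊤ := Local.compl_eq_top y A φ₁ hx
    have h4 : ConnectedSpace ↥(Glue.cmpl φ₁ y A : Scheme.{u}) := Glue.connectedSpace_of_eq_top A _ htop
    refine clSurj_of_ptSplit P.hom (𝟙 _ ≫ θ) (ptSplit_comp P.hom θ _ hs)
      (fA ≫ Hens2.specOf Y₁ y A ≫ b₁) ?_
    have h5 : (𝟙 _ ≫ θ) ≫ fA ≫ Hens2.specOf Y₁ y A ≫ b₁ =
        (Glue.cmpl φ₁ y A).ι ≫ Hens2.specOf Y₁ y A ≫ b₁ := by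
      rw [Category.id_comp, reassoc_of% hθ']
    rw [h5]
    exact isPreconnected_top b₁ (Hens2.specOf Y₁ y A) hcl _ htop

end K722.Leaf
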